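import Mathlib

set_option autoImplicit false

/-!
Shared definition for statement S2930 (groups in which a Sylow `3`-subgroup lies in a unique
maximal subgroup, with generalized Fitting subgroup an alternating group).
-/

namespace Cfsg.Agent.Helper30.ThreeMin

open Equiv

/-- `S` lies in two subgroups of the symmetric group, neither containing the alternating group, whose
even parts together generate the alternating group. -/
def TwoOver {α : Type*} [Fintype α] [DecidableEq α] (S : Subgroup (Perm α)) : Prop :=
  ∃ L₁ L₂ : Subgroup (Perm α), S ≤ L₁ ∧ S ≤ L₂ ∧ ¬ alternatingGroup α ≤ L₁ ∧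
    ¬ alternatingGroup α ≤ L₂ ∧
    alternatingGroup α ≤ (L₁ ⊓ alternatingGroup α) ⊔ (L₂ ⊓ alternatingGroup α)

end Cfsg.Agent.Helper30.ThreeMin
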