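import Mathlib
import Cfsg.Agent.Helper30.ThreeMin.Defs
import Cfsg.Agent.Helper35.ThreeMinT3a
import Cfsg.Agent.Helper59.ThreeMinT3b
import Cfsg.Agent.Helper85.ThreeMinT3c

set_option autoImplicit false

/-!
# The three orbit cases for S2930, as delivered by helper35, helper59 and helper85
-/

open Equiv Equiv.Perm MulAction Subgroup Cfsg.Agent.Helper30.ThreeMin
open scoped Pointwise

namespace Cfsg.Agent.Helper30.ThreeMin.PcT

universe u

/-- (T-3a) three orbits -/
theorem twoOver_of_three_orbits {α : Type u} [Fintype α] [DecidableEq α] (S : Subgroup (Perm α))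
    (h5 : 5 ≤ Fintype.card α) (x y z : α) (hxy : orbit S x ≠ orbit S y)
    (hxz : orbit S x ≠ orbit S z) (hyz : orbit S y ≠ orbit S z) : TwoOver S :=
  Cfsg.Agent.Helper35.ThreeMin.twoOver_of_three_orbits S h5 x y z hxy hxz hyz

/-- (T-3b) two orbits, of sizes `≥ 9` and `≥ 3` -/
theorem twoOver_of_two_orbits {α : Type u} [Fintype α] [DecidableEq α] (S : Subgroup (Perm α))
    (hS : IsPGroup 3 S) (x y : α) (hxy : orbit S x ≠ orbit S y)
    (hall : ∀ z : α, z ∈ orbit S x ∨ z ∈ orbit S y) (hx : 9 ≤ (orbit S x).ncard)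
    (hy : 3 ≤ (orbit S y).ncard) : TwoOver S :=
  Cfsg.Agent.Helper59.ThreeMin.twoOver_of_two_orbits S hS x y hxy hall hx hy

/-- (T-3c) transitive, degree `≥ 27` -/
theorem twoOver_of_transitive {α : Type u} [Fintype α] [DecidableEq α] (S : Subgroup (Perm α))
    (hS : IsPGroup 3 S) (htr : IsPretransitive S α) (h27 : 27 ≤ Fintype.card α) :
    TwoOver S :=
  Cfsg.Agent.Helper85.ThreeMin.twoOver_of_transitive S hS htr h27

end Cfsg.Agent.Helper30.ThreeMin.PcT
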