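import Mathlib
import Cfsg.Prelude.Def_Local
import Cfsg.Prelude.Def_LocalEven
import Cfsg.Agent.Helper30.ThreeMin.Defs
import Cfsg.Agent.Helper21.Radical
import Cfsg.Agent.Helper22.Bender
import Cfsg.Agent.S4231

/-!
# Reduction of S2930 to a statement about `3`-subgroups of the alternating group
-/

set_option autoImplicit false

open Equiv Equiv.Perm MulAction Subgroup Cfsg

namespace Cfsg.Agent.Helper30.ThreeMin

universe u

section general

variable {X : Type u} [Group X] [Finite X] {p : ℕ} [Fact p.Prime]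

omit [Fact p.Prime] in
/-- two proper overgroups of a Sylow subgroup that generate the group: not `p`-minimal -/
theorem not_isPMinimal_of_two_over (S : Sylow p X) (K₁ K₂ : Subgroup X)
    (h1 : (S : Subgroup X) ≤ K₁) (h2 : (S : Subgroup X) ≤ K₂) (hK1 : K₁ ≠ ⊤) (hK2 : K₂ ≠ ⊤)
    (hsup : K₁ ⊔ K₂ = ⊤) : ¬ IsPMinimal p X := by
  intro h
  obtain ⟨-, M, ⟨hM, hSM⟩, huniq⟩ := h S
  have key : ∀ K : Subgroup X, (S : Subgroup X) ≤ K → K ≠ ⊤ → K ≤ M := by
    intro K hSK hK
    rcases IsCoatomic.eq_top_or_exists_le_coatom K with h' | ⟨M', hM', hKM'⟩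
    · exact absurd h' hK
    · have := huniq M' ⟨hM', hSK.trans hKM'⟩
      rw [← this]; exact hKM'
  have : K₁ ⊔ K₂ ≤ M := sup_le (key K₁ h1 hK1) (key K₂ h2 hK2)
  rw [hsup, top_le_iff] at this
  exact hM.1 this

/-- a normal subgroup containing a Sylow `p`-subgroup of a `p`-minimal group is everything -/
theorem eq_top_of_sylow_le_normal (hX : IsPMinimal p X) (S : Sylow p X) (N : Subgroup X)
    [N.Normal] (hSN : (S : Subgroup X) ≤ N) : N = ⊤ := by
  by_contra hN
  obtain ⟨hnn, M, ⟨hM, hSM⟩, huniq⟩ := hX S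
  have key : ∀ K : Subgroup X, (S : Subgroup X) ≤ K → K ≠ ⊤ → K ≤ M := by
    intro K hSK hK
    rcases IsCoatomic.eq_top_or_exists_le_coatom K with h' | ⟨M', hM', hKM'⟩
    · exact absurd h' hK
    · have := huniq M' ⟨hM', hSK.trans hKM'⟩
      rw [← this]; exact hKM'
  have hNM : N ≤ M := key N hSN hN
  have hnorm : Subgroup.normalizer ((S : Subgroup X) : Set X) ≠ ⊤ := by
    intro h
    exact hnn (Subgroup.normalizer_eq_top_iff.mp h)
  have hnM : Subgroup.normalizer ((S : Subgroup X) : Set X) ≤ M := key _ Subgroup.le_normalizer hnorm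
  have hfr := Sylow.normalizer_sup_eq_top' S hSN
  have : (⊤ : Subgroup X) ≤ M := hfr ▸ sup_le hnM hNM
  exact hM.1 (top_le_iff.mp this)

end general

theorem sign_eq_one_of_orderOf_three_pow {β : Type*} [Fintype β] [DecidableEq β] (σ : Perm β)
    {j : ℕ} (h : orderOf σ = 3 ^ j) : sign σ = 1 := by
  have h1 : (sign σ) ^ (3 ^ j) = 1 := by
    rw [← map_pow, ← h, pow_orderOf_eq_one, map_one]
  rcases Int.units_eq_one_or (sign σ) with h' | h'
  · exact h'
  · rw [h'] at h1
    have hodd : Odd (3 ^ j) := Odd.pow (by decide)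
    rw [hodd.neg_one_pow] at h1
    exact absurd h1 (by decide)

/-- an element of `3`-power order of `X` acts on `N ≅ A_n` as an inner automorphism, so it lies in
`N` when `N` contains its centralizer -/
theorem mem_of_orderOf_three_pow {X : Type u} [Group X] [Finite X] (N : Subgroup X) [N.Normal]
    (hC : Subgroup.centralizer (N : Set X) ≤ N) (n : ℕ) (hn : 5 ≤ n)
    (φ : ↥N ≃* ↥(alternatingGroup (Fin n))) (x : X) (hx : ∃ k : ℕ, orderOf x = 3 ^ k) :
    x ∈ N := by
  have : Fact (Nat.Prime 3) := ⟨Nat.prime_three⟩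
  obtain ⟨k, hk⟩ := hx
  let Φ : X →* MulAut ↥(alternatingGroup (Fin n)) :=
    (MulAut.congr φ).toMonoidHom.comp (MulAut.conjNormal (H := N))
  have hord : ∃ j : ℕ, orderOf (Φ x) = 3 ^ j := by
    have hdvd : orderOf (Φ x) ∣ 3 ^ k := hk ▸ orderOf_map_dvd Φ x
    obtain ⟨j, -, hj⟩ := (Nat.dvd_prime_pow Nat.prime_three).mp hdvd
    exact ⟨j, hj⟩
  obtain ⟨σ, hσ⟩ := Cfsg.Agent.S4231.exists_perm_of_prime_pow n hn 3 (fun _ => by norm_num) (Φ x) hord
  obtain ⟨j, hj⟩ := hord
  have hinj := Cfsg.Agent.S2119.conjNormal_injective n (by omega)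
  have hσord : orderOf σ = 3 ^ j := by
    rw [← hj, ← hσ]
    exact (orderOf_injective _ hinj σ).symm
  have hσA : σ ∈ alternatingGroup (Fin n) := by
    rw [mem_alternatingGroup]
    exact sign_eq_one_of_orderOf_three_pow σ hσord
  let y : ↥N := φ.symm ⟨σ, hσA⟩
  -- `x` and `y` act in the same way on `N`
  have hact : ∀ h : ↥N, x * (h : X) * x⁻¹ = (y : X) * h * (y : X)⁻¹ := by
    intro h
    have h1 : (MulAut.conjNormal σ : MulAut ↥(alternatingGroup (Fin n))) (φ h) = Φ x (φ h) := by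
      rw [hσ]
    have h2 : Φ x (φ h) = φ (MulAut.conjNormal (H := N) x h) := by
      simp [Φ, MulAut.congr]
    have h3 : (MulAut.conjNormal σ : MulAut ↥(alternatingGroup (Fin n))) (φ h) =
        (⟨σ, hσA⟩ : alternatingGroup (Fin n)) * φ h * (⟨σ, hσA⟩ : alternatingGroup (Fin n))⁻¹ := by
      apply Subtype.ext
      simp [MulAut.conjNormal_apply]
    have h4 : φ (MulAut.conjNormal (H := N) x h) = φ (y * h * y⁻¹) := by
      rw [← h2, ← h1, h3, map_mul, map_mul, map_inv]
      simp [y]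
    have h5 := φ.injective h4
    have h6 := congrArg (Subtype.val) h5
    simpa [MulAut.conjNormal_apply] using h6
  have hcent : (y : X)⁻¹ * x ∈ Subgroup.centralizer (N : Set X) := by
    rw [Subgroup.mem_centralizer_iff]
    intro h hh
    have := hact ⟨h, hh⟩
    simp only at this
    -- h * (y⁻¹ x) = (y⁻¹ x) * h
    have e : x * h = (y : X) * h * (y : X)⁻¹ * x := by
      rw [← this]; group
    calc h * ((y : X)⁻¹ * x) = (y : X)⁻¹ * ((y : X) * h * (y : X)⁻¹ * x) := by group
      _ = (y : X)⁻¹ * (x * h) := by rw [e]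
      _ = (y : X)⁻¹ * x * h := by group
  have := N.mul_mem y.2 (hC hcent)
  simpa using this

end Cfsg.Agent.Helper30.ThreeMin
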