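import Mathlib
import Cfsg.Agent.Helper30.ThreeMin.Reduce
import Cfsg.Agent.Helper30.ThreeMin.PiecesT

/-!
# S2930: the orbit analysis and the assembly
-/

set_option autoImplicit false

open Equiv Equiv.Perm MulAction Subgroup Cfsg

namespace Cfsg.Agent.Helper30.ThreeMin
open PcT

universe u

/-- orbit sizes of a `3`-group -/
theorem orbit_ncard_three_pow {α : Type u} [Fintype α] [DecidableEq α] (S : Subgroup (Perm α))
    (hS : IsPGroup 3 S) (x : α) : ∃ a : ℕ, (orbit S x).ncard = 3 ^ a := by
  obtain ⟨a, ha⟩ := hS.card_orbit x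
  exact ⟨a, by rw [← ha, Nat.card_coe_set_eq]⟩

/-- **The orbit analysis.** A `3`-subgroup of the symmetric group of degree `n ≥ 5` without two
proper overgroups as in `TwoOver` forces `n = 6`, `n = 9` or `n = 3 ^ a + 1`. -/
theorem degree_of_not_twoOver {α : Type u} [Fintype α] [DecidableEq α] (S : Subgroup (Perm α))
    (hS : IsPGroup 3 S) (h5 : 5 ≤ Fintype.card α) (hno : ¬ TwoOver S) :
    Fintype.card α = 6 ∨ Fintype.card α = 9 ∨ ∃ a : ℕ, 2 ≤ a ∧ Fintype.card α = 3 ^ a + 1 := by
  have hne : Nonempty α := Fintype.card_pos_iff.mp (by omega)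
  obtain ⟨x⟩ := hne
  obtain ⟨a, ha⟩ := orbit_ncard_three_pow S hS x
  by_cases hx : ∃ y : α, y ∉ orbit S x
  · obtain ⟨y, hy⟩ := hx
    obtain ⟨b, hb⟩ := orbit_ncard_three_pow S hS y
    have hxy : orbit S x ≠ orbit S y := by
      intro h
      exact hy (h ▸ mem_orbit_self y)
    by_cases hz : ∃ z : α, z ∉ orbit S x ∧ z ∉ orbit S y
    · obtain ⟨z, hzx, hzy⟩ := hz
      exfalso
      apply hno
      refine twoOver_of_three_orbits S h5 x y z hxy ?_ ?_
      · intro h; exact hzx (h ▸ mem_orbit_self z)
      · intro h; exact hzy (h ▸ mem_orbit_self z)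
    · push Not at hz
      have hall : ∀ z : α, z ∈ orbit S x ∨ z ∈ orbit S y := by
        intro z
        by_cases h : z ∈ orbit S x
        · exact Or.inl h
        · exact Or.inr (hz z h)
      -- the two orbits partition the points
      have hdisj : Disjoint (orbit S x) (orbit S y) := by
        rw [Set.disjoint_left]
        intro w hwx hwy
        apply hxy
        rw [← orbit_eq_iff.mpr hwx, ← orbit_eq_iff.mpr hwy]
      have hun : orbit S x ∪ orbit S y = Set.univ := by
        ext w; simpa using hall w
      have hsum : (orbit S x).ncard + (orbit S y).ncard = Fintype.card α := by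
        rw [← Set.ncard_union_eq hdisj, hun, Set.ncard_univ, Nat.card_eq_fintype_card]
      rw [ha, hb] at hsum
      -- case analysis on the exponents
      have h3a : ∀ c : ℕ, 2 ≤ c → 9 ≤ 3 ^ c := by
        intro c hc
        calc 9 = 3 ^ 2 := by norm_num
          _ ≤ 3 ^ c := Nat.pow_le_pow_right (by norm_num) hc
      rcases Nat.lt_or_ge a 1 with ha0 | ha1
      · -- `a = 0`
        have : a = 0 := by omega
        subst this
        right; right
        refine ⟨b, ?_, by omega⟩
        by_contra hb2
        have : b = 0 ∨ b = 1 := by omega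
        rcases this with rfl | rfl <;> simp at hsum <;> omega
      rcases Nat.lt_or_ge b 1 with hb0 | hb1
      · have : b = 0 := by omega
        subst this
        right; right
        refine ⟨a, ?_, by omega⟩
        by_contra ha2
        have : a = 1 := by omega
        subst this
        simp at hsum
        omega
      -- both orbits have at least three points
      have h3x : 3 ≤ (orbit S x).ncard := by
        rw [ha]
        calc 3 = 3 ^ 1 := by norm_num
          _ ≤ 3 ^ a := Nat.pow_le_pow_right (by norm_num) ha1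
      have h3y : 3 ≤ (orbit S y).ncard := by
        rw [hb]
        calc 3 = 3 ^ 1 := by norm_num
          _ ≤ 3 ^ b := Nat.pow_le_pow_right (by norm_num) hb1
      rcases Nat.lt_or_ge a 2 with ha2 | ha2
      · have ha1' : a = 1 := by omega
        rcases Nat.lt_or_ge b 2 with hb2 | hb2
        · have hb1' : b = 1 := by omega
          left
          subst ha1' hb1'
          omega
        · exfalso
          apply hno
          refine twoOver_of_two_orbits S hS y x (Ne.symm hxy) (fun z => (hall z).symm) ?_ h3x
          rw [hb]; exact h3a b hb2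
      · exfalso
        apply hno
        refine twoOver_of_two_orbits S hS x y hxy hall ?_ h3y
        rw [ha]; exact h3a a ha2
  · -- transitive
    push Not at hx
    have htr : IsPretransitive S α := by
      refine ⟨fun u v => ?_⟩
      have hu := hx u
      have hv := hx v
      obtain ⟨g, hg⟩ := hu
      obtain ⟨g', hg'⟩ := hv
      refine ⟨g' * g⁻¹, ?_⟩
      rw [← hg, ← hg', mul_smul, inv_smul_smul]
    have hcard : Fintype.card α = 3 ^ a := by
      rw [← ha, ← Nat.card_eq_fintype_card, ← Set.ncard_univ]
      congr 1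
      ext w; simpa using hx w
    rcases Nat.lt_or_ge a 3 with ha3 | ha3
    · have : a = 0 ∨ a = 1 ∨ a = 2 := by omega
      rcases this with rfl | rfl | rfl
      · simp at hcard; omega
      · simp at hcard; omega
      · right; left; rw [hcard]; norm_num
    · exfalso
      apply hno
      refine twoOver_of_transitive S hS htr ?_
      rw [hcard]
      calc 27 = 3 ^ 3 := by norm_num
        _ ≤ 3 ^ a := Nat.pow_le_pow_right (by norm_num) ha3

end Cfsg.Agent.Helper30.ThreeMin

namespace Cfsg.Agent.Helper30.ThreeMin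
open PcT

universe u

/-- the image in the symmetric group of a Sylow `3`-subgroup of a `3`-minimal group isomorphic to
`A_n` has no two overgroups as in `TwoOver` -/
theorem not_twoOver_of_isPMinimal {X : Type u} [Group X] [Finite X] (hX : IsPMinimal 3 X) (n : ℕ)
    (ψ : X ≃* ↥(alternatingGroup (Fin n))) (S : Sylow 3 X) :
    ¬ TwoOver ((S : Subgroup X).map ((alternatingGroup (Fin n)).subtype.comp ψ.toMonoidHom)) := by
  have : Fact (Nat.Prime 3) := ⟨Nat.prime_three⟩
  set f : X →* Perm (Fin n) := (alternatingGroup (Fin n)).subtype.comp ψ.toMonoidHom with hf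
  have hfinj : Function.Injective f := by
    intro a b hab
    apply ψ.injective
    apply Subtype.ext
    exact hab
  have hrange : f.range = alternatingGroup (Fin n) := by
    ext g
    constructor
    · rintro ⟨a, rfl⟩
      exact (ψ a).2
    · intro hg
      exact ⟨ψ.symm ⟨g, hg⟩, by simp [hf]⟩
  rintro ⟨L₁, L₂, h1, h2, hL1, hL2, hgen⟩
  refine not_isPMinimal_of_two_over S (L₁.comap f) (L₂.comap f) ?_ ?_ ?_ ?_ ?_ hX
  · exact Subgroup.map_le_iff_le_comap.mp h1
  · exact Subgroup.map_le_iff_le_comap.mp h2
  · intro h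
    apply hL1
    rw [← hrange]
    rintro _ ⟨a, rfl⟩
    have : a ∈ L₁.comap f := h ▸ Subgroup.mem_top a
    exact this
  · intro h
    apply hL2
    rw [← hrange]
    rintro _ ⟨a, rfl⟩
    have : a ∈ L₂.comap f := h ▸ Subgroup.mem_top a
    exact this
  · rw [eq_top_iff]
    rw [← Subgroup.map_le_map_iff_of_injective hfinj, Subgroup.map_sup, Subgroup.map_comap_eq,
      Subgroup.map_comap_eq, hrange, ← MonoidHom.range_eq_map, hrange]
    rw [inf_comm (alternatingGroup (Fin n)) L₁, inf_comm (alternatingGroup (Fin n)) L₂]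
    exact hgen

/-- **S2930.** -/
theorem three_minimal_alternating {X : Type u} [Group X] [Finite X] (hX : IsPMinimal 3 X) (n : ℕ)
    (hn : 5 ≤ n)
    (hF : Nonempty (↥(generalizedFittingSubgroup X) ≃* ↥(alternatingGroup (Fin n)))) :
    generalizedFittingSubgroup X = ⊤ ∧ (n = 6 ∨ n = 9 ∨ ∃ a : ℕ, 2 ≤ a ∧ n = 3 ^ a + 1) := by
  have : Fact (Nat.Prime 3) := ⟨Nat.prime_three⟩
  obtain ⟨φ⟩ := hF
  have hnorm : (generalizedFittingSubgroup X).Normal :=
    Cfsg.Agent.Helper21.generalizedFittingSubgroup_normal
  obtain ⟨S⟩ : Nonempty (Sylow 3 X) := inferInstance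
  have hSN : (S : Subgroup X) ≤ generalizedFittingSubgroup X := by
    intro s hs
    refine mem_of_orderOf_three_pow _ Cfsg.Agent.Helper22.centralizer_generalizedFittingSubgroup_le n hn
      φ s ?_
    obtain ⟨k, hk⟩ := (IsPGroup.iff_orderOf.mp S.isPGroup') ⟨s, hs⟩
    exact ⟨k, by rwa [Subgroup.orderOf_mk] at hk⟩
  have htop : generalizedFittingSubgroup X = ⊤ := eq_top_of_sylow_le_normal hX S _ hSN
  refine ⟨htop, ?_⟩
  let ψ : X ≃* ↥(alternatingGroup (Fin n)) :=
    (Subgroup.topEquiv.symm.trans (MulEquiv.subgroupCongr htop.symm)).trans φ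
  have hno := not_twoOver_of_isPMinimal hX n ψ S
  have hS3 : IsPGroup 3 ((S : Subgroup X).map
      ((alternatingGroup (Fin n)).subtype.comp ψ.toMonoidHom)) := S.isPGroup'.map _
  have := degree_of_not_twoOver _ hS3 (by rw [Fintype.card_fin]; exact hn) hno
  rwa [Fintype.card_fin] at this

end Cfsg.Agent.Helper30.ThreeMin
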